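import Cfsg.Agent.Lib.KnownA.SpGen.PairField

/-!
From one full transvection group and two opposite regular unipotent elements to the whole
symplectic group.
-/

set_option autoImplicit false

namespace CfsgLib.KnownA.SpGen

open Matrix CfsgLib.Classical

variable {F : Type*} [Field F] {n : ℕ}

/-- The basis vector `e i`. -/
abbrev eV (i : Fin n) : Fin n ⊕ Fin n → F := Pi.single (.inl i) 1

/-- The basis vector `f i`. -/
abbrev fV (i : Fin n) : Fin n ⊕ Fin n → F := Pi.single (.inr i) 1

@[simp] theorem sbil_eV_eV (i j : Fin n) : sbil (eV i) (eV j : Fin n ⊕ Fin n → F) = 0 := by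
  simp [sbil_single_inl, eV]

@[simp] theorem sbil_fV_fV (i j : Fin n) : sbil (fV i) (fV j : Fin n ⊕ Fin n → F) = 0 := by
  simp [sbil_single_inr, fV]

theorem sbil_eV_fV (i j : Fin n) :
    sbil (eV i) (fV j : Fin n ⊕ Fin n → F) = if i = j then -1 else 0 := by
  rw [sbil_single_inr]
  split_ifs with h
  · simp [eV, h]
  · simp [eV, Ne.symm h]

theorem sbil_fV_eV (i j : Fin n) :
    sbil (fV i) (eV j : Fin n ⊕ Fin n → F) = if i = j then 1 else 0 := by
  rw [sbil_swap, sbil_eV_fV]
  split_ifs with h h' <;> simp_all

/-- All transvections with vector `v` lie in `H`. -/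
def Full (H : Subgroup (Matrix.symplecticGroup (Fin n) F)) (v : Fin n ⊕ Fin n → F) : Prop :=
  ∀ x : F, stv x v ∈ H

theorem Full.smul {H : Subgroup (Matrix.symplecticGroup (Fin n) F)} {v : Fin n ⊕ Fin n → F}
    (h : Full H v) (r : F) : Full H (r • v) := fun x => by
  rw [stv_smul]; exact h _

theorem Full.cast {H : Subgroup (Matrix.symplecticGroup (Fin n) F)} {v w : Fin n ⊕ Fin n → F}
    (h : Full H v) (e : v = w) : Full H w := e ▸ h

theorem Full.move {H : Subgroup (Matrix.symplecticGroup (Fin n) F)}
    {g : Matrix.symplecticGroup (Fin n) F} (hg : g ∈ H) {v w : Fin n ⊕ Fin n → F}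
    (h : Full H v) (e : g.1 *ᵥ v = w) : Full H w := fun x => stv_orbit hg (h x) e

theorem Full.back {H : Subgroup (Matrix.symplecticGroup (Fin n) F)}
    {g : Matrix.symplecticGroup (Fin n) F} (hg : g ∈ H) {v w : Fin n ⊕ Fin n → F}
    (h : Full H w) (e : g.1 *ᵥ v = w) : Full H v :=
  h.move (inv_mem hg) (by rw [← e, sp_inv_mulVec])

theorem stvClosure_le {H : Subgroup (Matrix.symplecticGroup (Fin n) F)}
    {W : Submodule F (Fin n ⊕ Fin n → F)} (h : ∀ v ∈ W, Full H v) : stvClosure W ≤ H := by
  rw [stvClosure, Subgroup.closure_le]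
  rintro g ⟨a, v, hv, rfl⟩
  exact h v hv a

theorem closure_eq_top (H : Subgroup (Matrix.symplecticGroup (Fin n) F))
    (u w : Matrix.symplecticGroup (Fin n) F) (hu : u ∈ H) (hw : w ∈ H)
    (hue : ∀ i k : Fin n, k.val = i.val + 1 → u.1 *ᵥ eV k = eV k + eV i)
    (hwe : ∀ i k : Fin n, k.val = i.val + 1 → w.1 *ᵥ (eV i + eV k) = eV i)
    (hwf : ∀ i k : Fin n, k.val = i.val + 1 → w.1 *ᵥ fV k = fV k + fV i)
    (last : Fin n) (hlast : last.val + 1 = n) (ρ : F) (hρ : ρ ≠ 0)
    (hwn : w.1 *ᵥ eV last = eV last - ρ • fV last)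
    (A : Fin n) (hA : Full H (eV A)) : H = ⊤ := by
  classical
  -- the first members of all pairs
  have hsum : ∀ i k : Fin n, k.val = i.val + 1 → Full H (eV i) → Full H (eV i + eV k) :=
    fun i k hk h => h.back hw (hwe i k hk)
  have up : ∀ i k : Fin n, k.val = i.val + 1 → Full H (eV i) → Full H (eV k) :=
    fun i k hk h => (hsum i k hk h).back hu (by rw [hue i k hk, add_comm])
  have down : ∀ i k : Fin n, k.val = i.val + 1 → Full H (eV k) → Full H (eV i) := fun i k hk h =>
    (h.move hu (show u.1 *ᵥ eV k = eV i + eV k by rw [hue i k hk, add_comm])).move hw (hwe i k hk)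
  have h0 : ∀ m : ℕ, ∀ i : Fin n, i.val = m → Full H (eV i) → Full H (eV (⟨0, i.pos⟩ : Fin n)) := by
    intro m
    induction m with
    | zero => exact fun i hi h => h.cast (by rw [show i = ⟨0, i.pos⟩ from Fin.ext hi])
    | succ m ih => exact fun i hi h => ih ⟨m, by omega⟩ rfl (down _ i hi h)
  have he : ∀ i : Fin n, Full H (eV i) := by
    intro i
    obtain ⟨m, hm⟩ : ∃ m, i.val = m := ⟨_, rfl⟩
    induction m generalizing i with
    | zero => exact (h0 _ A rfl hA).cast (by rw [show i = ⟨0, A.pos⟩ from Fin.ext hm])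
    | succ m ih => exact up ⟨m, by omega⟩ i hm (ih _ rfl)
  have hfl : Full H (fV last) := by
    have h1 := ((he last).move hw hwn).move (he last (-ρ⁻¹))
      (w := (-ρ) • fV last) (by
        rw [stv_mulVec, sbil_sub_right, sbil_smul_right, sbil_eV_eV, sbil_eV_fV, if_pos rfl]
        match_scalars <;> field_simp <;> ring)
    exact (h1.smul (-ρ)⁻¹).cast (by rw [smul_smul, inv_mul_cancel₀ (neg_ne_zero.2 hρ), one_smul])
  -- induction on the support
  refine sp_eq_top_of_stv_mem H fun a v => ?_
  suffices h : ∀ d k : ℕ, n = k + d →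
      ∀ v ∈ (supOutside (Finset.univ.filter fun i : Fin n => i.val < k) :
        Submodule F (Fin n ⊕ Fin n → F)), Full H v from
    h n 0 (by simp) v (by simp [mem_supOutside]) a
  intro d
  induction d with
  | zero =>
    intro k hk v hv
    have : v = 0 := by
      funext j
      rcases j with i | i
      · exact (hv i (by simp; omega)).1
      · exact (hv i (by simp; omega)).2
    subst this
    intro x
    have : stv x (0 : Fin n ⊕ Fin n → F) = 1 := sp_ext fun y => by simp
    rw [this]; exact one_mem H
  | succ d ih =>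
    intro k hk
    have IH := ih (k + 1) (by omega)
    set W' : Submodule F (Fin n ⊕ Fin n → F) :=
      supOutside (Finset.univ.filter fun i : Fin n => i.val < k + 1) with hW'
    let p : Fin n := ⟨k, by omega⟩
    have hle : stvClosure W' ≤ H := stvClosure_le IH
    have hfix : ∀ g ∈ stvClosure W', g.1 *ᵥ eV p = eV p ∧ g.1 *ᵥ fV p = fV p := by
      intro g hg
      refine ⟨stvClosure_fix hg fun y hy => ?_, stvClosure_fix hg fun y hy => ?_⟩
      · rw [sbil_single_inl, (hy p (by simp [p])).2, zero_mul]
      · rw [sbil_single_inr, (hy p (by simp [p])).1, zero_mul, neg_zero]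
    -- the second member of the pair
    have hf : Full H (fV p) := by
      by_cases hkn : k + 1 = n
      · exact hfl.cast (by rw [show last = p from Fin.ext (by simp [p]; omega)])
      let q : Fin n := ⟨k + 1, by omega⟩
      have hq : q.val = p.val + 1 := rfl
      have hpq : p ≠ q := fun h => by simp [p, q, Fin.ext_iff] at h
      have hqW : eV q ∈ W' ∧ fV q ∈ W' :=
        single_mem_supOutside (by simp [q]) 1
      have hy : Full H (fV q + fV p) := (IH _ hqW.2).move hw (hwf p q hq)
      obtain ⟨g, hg, hgq⟩ := exists_move_vector (snondeg_supOutside _) hqW.1 hqW.2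
        (by simp [eV]) (by simp [fV])
      have hef : Full H (eV p + fV q) := (hsum p q hq (he p)).move (hle hg)
        (by rw [mulVec_add, (hfix g hg).1, hgq])
      have h2 : Full H (fV p - eV p) := hy.move (hef 1) (by
        rw [stv_mulVec]
        simp only [sbil_add_left, sbil_add_right, sbil_eV_fV, sbil_fV_fV, if_pos, if_neg hpq]
        module)
      exact h2.move (he p (-1)) (by
        rw [stv_mulVec]
        simp only [sbil_sub_right, sbil_eV_fV, sbil_eV_eV, if_pos]
        module)
    -- the plane of the pair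
    set P : Submodule F (Fin n ⊕ Fin n → F) := supOutside (Finset.univ.erase p) with hP
    have hPfull : ∀ y ∈ P, Full H y := by
      intro y hy
      have hy' : y = y (.inl p) • eV p + y (.inr p) • fV p := by
        funext j
        rcases j with i | i <;> by_cases hi : i = p
        · simp [hi, eV, fV]
        · simp [hi, eV, fV, (hy i (by simp [hi])).1]
        · simp [hi, eV, fV]
        · simp [hi, eV, fV, (hy i (by simp [hi])).2]
      by_cases hb : y (.inr p) = 0
      · exact ((he p).smul (y (.inl p))).cast (by rw [hb, zero_smul, add_zero] at hy'; exact hy'.symm)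
      · refine ((hf.move (he p (-(y (.inl p) / y (.inr p)))) rfl).smul (y (.inr p))).cast ?_
        rw [stv_mulVec, sbil_eV_fV, if_pos rfl]
        conv_rhs => rw [hy']
        match_scalars <;> field_simp
    intro v hv
    let x : Fin n ⊕ Fin n → F := v (.inl p) • eV p + v (.inr p) • fV p
    have hxP : x ∈ P := by
      intro i hi
      have : i ≠ p := (Finset.mem_erase.1 hi).1
      simp [x, eV, fV, this]
    have hyW : v - x ∈ W' := by
      intro i hi
      rw [Finset.mem_filter] at hi
      by_cases hi' : i = p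
      · subst hi'; simp [x, eV, fV]
      · have h1 := hv i (by simp; have := Fin.val_ne_of_ne hi'; simp [p] at this; omega)
        simp [x, eV, fV, h1.1, h1.2, hi']
    by_cases hy0 : v - x = 0
    · exact (hPfull x hxP).cast (sub_eq_zero.1 hy0).symm
    by_cases hx0 : x = 0
    · exact (IH _ hyW).cast (by rw [hx0, sub_zero])
    by_cases hkn : k + 1 = n
    · refine absurd ?_ hy0
      funext j
      rcases j with i | i
      · exact (hyW i (by simp; omega)).1
      · exact (hyW i (by simp; omega)).2
    let q : Fin n := ⟨k + 1, by omega⟩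
    have hq : q.val = p.val + 1 := rfl
    have heq : eV q ∈ W' := (single_mem_supOutside (by simp [q]) 1).1
    have hep : eV p ∈ P := (single_mem_supOutside (by simp) 1).1
    obtain ⟨g, hg, hgx⟩ := exists_move_vector (snondeg_supOutside _) hxP hep hx0 (by simp [eV])
    obtain ⟨g', hg', hgy⟩ := exists_move_vector (snondeg_supOutside _) hyW heq hy0 (by simp [eV])
    have hgW : g.1 *ᵥ (v - x) = v - x := stvClosure_fix hg fun z hz => by
      rw [sbil_apply]
      refine Finset.sum_eq_zero fun i _ => ?_
      by_cases hi : i = p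
      · subst hi; simp [(hyW p (by simp [p])).1, (hyW p (by simp [p])).2]
      · simp [(hz i (by simp [hi])).1, (hz i (by simp [hi])).2]
    refine (hsum p q hq (he p)).back (mul_mem (hle hg') (stvClosure_le hPfull hg)) ?_
    rw [sp_mul_mulVec, show v = x + (v - x) by abel, mulVec_add, hgW, hgx, mulVec_add,
      (hfix g' hg').1, hgy]

end CfsgLib.KnownA.SpGen
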