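import Cfsg.Agent.Lib.KnownA.SpGen.Closure
import Cfsg.Agent.Lib.KnownA.Unipotent

/-!
Two opposite regular unipotent elements of the symplectic group, and the conjugators producing a
transvection.
-/

set_option autoImplicit false

namespace CfsgLib.KnownA.SpGen

open Matrix CfsgLib.Classical

variable {F : Type*} [Field F] {n : ℕ}

theorem det_one_add_shift : (1 + shiftMat F n).det = 1 := by
  rw [Matrix.det_of_isUpperTriangular]
  · exact Finset.prod_eq_one fun i _ => by simp [shiftMat]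
  · intro i j (hij : j < i)
    have : (j : ℕ) < i := hij
    simp [shiftMat, hij.ne', Matrix.one_apply, show ¬ (j : ℕ) = i + 1 by omega]

theorem levi_mem (A : Matrix (Fin n) (Fin n) F) (hd : IsUnit A.det) :
    fromBlocks A 0 0 (Aᵀ)⁻¹ ∈ Matrix.symplecticGroup (Fin n) F := by
  rw [SymplecticGroup.mem_iff']
  simp [Matrix.J, fromBlocks_transpose, fromBlocks_multiply, transpose_nonsing_inv,
    Matrix.nonsing_inv_mul _ hd, Matrix.mul_nonsing_inv _ (isUnit_det_transpose _ hd)]

variable (F n) in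
/-- The block diagonal regular element of the Levi subgroup. -/
noncomputable def spL : Matrix.symplecticGroup (Fin n) F :=
  ⟨fromBlocks (1 + shiftMat F n) 0 0 ((1 + shiftMat F n)ᵀ)⁻¹,
    levi_mem _ (by rw [det_one_add_shift]; exact isUnit_one)⟩

/-- The element exchanging the two Lagrangians. -/
noncomputable def spW (t : F) (ht : t ≠ 0) : Matrix.symplecticGroup (Fin n) F :=
  ⟨fromBlocks 0 (t • 1) (-t⁻¹ • 1) 0, by
    rw [SymplecticGroup.mem_iff']
    simp [Matrix.J, fromBlocks_transpose, fromBlocks_multiply, smul_smul, ht]⟩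

/-- The upper regular unipotent element. -/
noncomputable def spU (last : Fin n) (σ : F) : Matrix.symplecticGroup (Fin n) F :=
  stv (-σ) (eV last) * spL F n

theorem shift_mulVec_single (k : Fin n) (r : Fin n) :
    ((1 + shiftMat F n) *ᵥ Pi.single k (1 : F)) r =
      (if r = k then 1 else 0) + (if k.val = r.val + 1 then 1 else 0) := by
  simp [Matrix.mulVec_single_one, shiftMat, Matrix.one_apply, eq_comm]

theorem spL_eV (k : Fin n) (x : Fin n ⊕ Fin n) :
    ((spL F n).1 *ᵥ eV k) x = Sum.elim ((1 + shiftMat F n) *ᵥ Pi.single k (1 : F)) 0 x := by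
  rcases x with i | i <;> simp [spL, eV, fromBlocks]

theorem spL_eV_succ {i k : Fin n} (h : k.val = i.val + 1) :
    (spL F n).1 *ᵥ eV k = eV k + eV i := by
  funext x
  rw [spL_eV]
  rcases x with r | r
  · simp only [Sum.elim_inl, shift_mulVec_single, Pi.add_apply, eV, Pi.single_apply,
      Sum.inl.injEq, Fin.ext_iff, h]
    congr 1
    by_cases hr : r.val = i.val
    · simp [hr]
    · simp [hr, Ne.symm hr]
  · simp [eV]

theorem spL_eV_zero {i : Fin n} (h : i.val = 0) : (spL F n).1 *ᵥ eV i = eV i := by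
  funext x
  rw [spL_eV]
  rcases x with r | r
  · simp only [Sum.elim_inl, shift_mulVec_single, eV, Pi.single_apply, Sum.inl.injEq]
    rw [if_neg (show ¬ i.val = r.val + 1 by omega), add_zero]
  · simp [eV]

theorem spL_fV {i : Fin n} {v : Fin n → F}
    (hv : (1 + shiftMat F n)ᵀ *ᵥ Pi.single i 1 = v) :
    (spL F n).1 *ᵥ Sum.elim 0 v = fV i := by
  have hd : IsUnit (1 + shiftMat F n)ᵀ.det := by
    rw [det_transpose, det_one_add_shift]; exact isUnit_one
  rw [show (spL F n).1 = fromBlocks (1 + shiftMat F n) 0 0 ((1 + shiftMat F n)ᵀ)⁻¹ from rfl,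
    fromBlocks_mulVec, ← hv]
  have hm : ((1 + shiftMat F n)ᵀ)⁻¹ *ᵥ ((1 + shiftMat F n)ᵀ *ᵥ Pi.single i 1) = Pi.single i 1 := by
    rw [Matrix.mulVec_mulVec, Matrix.nonsing_inv_mul _ hd, one_mulVec]
  simp only [Sum.elim_comp_inl, Sum.elim_comp_inr, hm, mulVec_zero, zero_mulVec, add_zero, zero_add]
  funext x
  rcases x with r | r <;> simp [fV, Pi.single_apply]

theorem spL_fV_succ {i k : Fin n} (h : k.val = i.val + 1) :
    (spL F n).1 *ᵥ (fV i + fV k) = fV i := by
  refine Eq.trans ?_ (spL_fV (i := i) (v := Pi.single i 1 + Pi.single k 1) ?_)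
  · congr 1
    funext x
    rcases x with r | r <;> simp [fV, Pi.single_apply]
  · funext r
    simp [Pi.single_apply, shiftMat, Matrix.transpose_add, Matrix.one_apply, Fin.ext_iff, h]

theorem spL_fV_last {last : Fin n} (h : last.val + 1 = n) :
    (spL F n).1 *ᵥ fV last = fV last := by
  refine Eq.trans ?_ (spL_fV (i := last) (v := Pi.single last 1) ?_)
  · congr 1
    funext x
    rcases x with r | r <;> simp [fV, Pi.single_apply]
  · funext r
    have := r.2
    simp [Pi.single_apply, shiftMat, Matrix.transpose_add, Matrix.one_apply,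
      show ¬ r.val = last.val + 1 by omega]

variable {last : Fin n} {σ : F}

theorem spU_eV_zero {i : Fin n} (h : i.val = 0) : (spU last σ).1 *ᵥ eV i = eV i := by
  rw [spU, sp_mul_mulVec, spL_eV_zero h, stv_mulVec, sbil_eV_eV, mul_zero, zero_smul, add_zero]

theorem spU_eV_succ {i k : Fin n} (h : k.val = i.val + 1) :
    (spU last σ).1 *ᵥ eV k = eV k + eV i := by
  rw [spU, sp_mul_mulVec, spL_eV_succ h, stv_mulVec]
  simp [sbil_add_right]

theorem spU_fV_succ (hlast : last.val + 1 = n) {i k : Fin n} (h : k.val = i.val + 1) :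
    (spU last σ).1 *ᵥ (fV i + fV k) = fV i := by
  have : last ≠ i := fun e => by have := k.2; rw [e] at hlast; omega
  rw [spU, sp_mul_mulVec, spL_fV_succ h, stv_mulVec, sbil_eV_fV, if_neg this, mul_zero, zero_smul,
    add_zero]

theorem spU_fV_last (hlast : last.val + 1 = n) :
    (spU last σ).1 *ᵥ fV last = fV last + σ • eV last := by
  rw [spU, sp_mul_mulVec, spL_fV_last hlast, stv_mulVec, sbil_eV_fV, if_pos rfl]
  simp

theorem spW_eV (t : F) (ht : t ≠ 0) (i : Fin n) :
    (spW t ht).1 *ᵥ eV i = (-t⁻¹) • fV i := by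
  funext x
  rcases x with r | r <;> simp [spW, eV, fV, fromBlocks, Pi.single_apply, Matrix.one_apply] <;> split_ifs <;> simp

theorem spW_fV (t : F) (ht : t ≠ 0) (i : Fin n) :
    (spW t ht).1 *ᵥ fV i = t • eV i := by
  funext x
  rcases x with r | r <;> simp [spW, eV, fV, fromBlocks, Pi.single_apply, Matrix.one_apply] <;> split_ifs <;> simp

/-- The lower regular unipotent element. -/
noncomputable def spV (last : Fin n) (σ t : F) (ht : t ≠ 0) : Matrix.symplecticGroup (Fin n) F :=
  spW t ht * spU last σ * (spW t ht)⁻¹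

variable {t : F} {ht : t ≠ 0}

theorem spV_conj {v v' x x' : Fin n ⊕ Fin n → F} (hx : (spW t ht).1 *ᵥ x = v)
    (hu : (spU last σ).1 *ᵥ x = x') (hx' : (spW t ht).1 *ᵥ x' = v') :
    (spV last σ t ht).1 *ᵥ v = v' := by
  rw [spV, sp_mul_mulVec, sp_mul_mulVec, ← hx, sp_inv_mulVec, hu, hx']

theorem spV_eV_succ (hlast : last.val + 1 = n) {i k : Fin n} (h : k.val = i.val + 1) :
    (spV last σ t ht).1 *ᵥ (eV i + eV k) = eV i :=
  spV_conj (x := t⁻¹ • (fV i + fV k)) (x' := t⁻¹ • fV i)
    (by rw [mulVec_smul, mulVec_add, spW_fV, spW_fV, ← smul_add, smul_smul, inv_mul_cancel₀ ht, one_smul])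
    (by rw [mulVec_smul, spU_fV_succ hlast h])
    (by rw [mulVec_smul, spW_fV, smul_smul, inv_mul_cancel₀ ht, one_smul])

theorem spV_fV_succ {i k : Fin n} (h : k.val = i.val + 1) :
    (spV last σ t ht).1 *ᵥ fV k = fV k + fV i :=
  spV_conj (x := (-t) • eV k) (x' := (-t) • (eV k + eV i))
    (by rw [mulVec_smul, spW_eV, smul_smul, neg_mul_neg, mul_inv_cancel₀ ht, one_smul])
    (by rw [mulVec_smul, spU_eV_succ h])
    (by rw [mulVec_smul, mulVec_add, spW_eV, spW_eV, smul_add, smul_smul, smul_smul,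
      neg_mul_neg, mul_inv_cancel₀ ht, one_smul, one_smul])

theorem spV_eV_last (hlast : last.val + 1 = n) :
    (spV last σ t ht).1 *ᵥ eV last = eV last - (σ / t ^ 2) • fV last :=
  spV_conj (x := t⁻¹ • fV last) (x' := t⁻¹ • (fV last + σ • eV last))
    (by rw [mulVec_smul, spW_fV, smul_smul, inv_mul_cancel₀ ht, one_smul])
    (by rw [mulVec_smul, spU_fV_last hlast])
    (by
      rw [mulVec_smul, mulVec_add, mulVec_smul, spW_fV, spW_eV]
      match_scalars <;> field_simp)

/-- `spU` is regular unipotent. -/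
theorem spU_regular (hn : 1 ≤ n) (hlast : last.val + 1 = n) (hσ : σ ≠ 0) :
    IsNilpotent ((spU last σ).1 - 1) ∧ ((spU last σ).1 - 1) ^ (2 * n - 1) ≠ 0 := by
  set N := (spU last σ).1 - 1 with hN
  have hsucc : ∀ m v, N ^ (m + 1) *ᵥ v = N ^ m *ᵥ (N *ᵥ v) := fun m v => by
    rw [pow_succ, mulVec_mulVec]
  have hsucc' : ∀ m v, N ^ (m + 1) *ᵥ v = N *ᵥ (N ^ m *ᵥ v) := fun m v => by
    rw [pow_succ', mulVec_mulVec]
  have hNv : ∀ v, N *ᵥ v = (spU last σ).1 *ᵥ v - v := fun v => by
    rw [hN, sub_mulVec, one_mulVec]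
  let e0 : Fin n ⊕ Fin n → F := eV ⟨0, by omega⟩
  have he : ∀ m : ℕ, ∀ i : Fin n, i.val = m →
      N ^ m *ᵥ eV i = e0 ∧ N ^ (m + 1) *ᵥ eV i = 0 := by
    intro m
    induction m with
    | zero =>
      intro i hi
      have e : i = ⟨0, by omega⟩ := Fin.ext hi
      rw [pow_zero, one_mulVec, zero_add, pow_one, hNv, spU_eV_zero hi, sub_self]
      exact ⟨by rw [e], rfl⟩
    | succ m ih =>
      intro i hi
      have h1 : N *ᵥ eV i = eV ⟨m, by omega⟩ := by
        rw [hNv, spU_eV_succ (i := ⟨m, by omega⟩) hi, add_sub_cancel_left]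
      rw [hsucc, hsucc (m + 1), h1]
      exact ih _ rfl
  have hf : ∀ d : ℕ, ∀ i : Fin n, i.val + d + 1 = n →
      ∃ c : F, c ≠ 0 ∧ N ^ (n + d) *ᵥ fV i = c • e0 ∧ N ^ (n + d + 1) *ᵥ fV i = 0 := by
    intro d
    induction d with
    | zero =>
      intro i hi
      have e : i = last := Fin.ext (by omega)
      have h1 : N *ᵥ fV i = σ • eV last := by
        rw [hNv, e, spU_fV_last hlast, add_sub_cancel_left]
      refine ⟨σ, hσ, ?_, ?_⟩
      · rw [show n + 0 = (n - 1) + 1 by omega, hsucc, h1, mulVec_smul, (he (n - 1) last (by omega)).1]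
      · rw [show n + 0 + 1 = (n - 1 + 1) + 1 by omega, hsucc, h1, mulVec_smul,
          (he (n - 1) last (by omega)).2, smul_zero]
    | succ d ih =>
      intro i hi
      let k : Fin n := ⟨i.val + 1, by omega⟩
      obtain ⟨c, hc, h1, h2⟩ := ih k (by simp [k]; omega)
      have h3 : N *ᵥ fV i = -fV k - N *ᵥ fV k := by
        have := spU_fV_succ (σ := σ) hlast (i := i) (k := k) rfl
        rw [mulVec_add] at this
        rw [hNv, hNv, eq_sub_of_add_eq this]
        abel
      have h4 : N ^ (n + d + 1 + 1) *ᵥ fV k = 0 := by rw [hsucc', h2, mulVec_zero]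
      refine ⟨-c, neg_ne_zero.2 hc, ?_, ?_⟩
      · rw [← add_assoc, hsucc, h3, mulVec_sub, mulVec_neg, h1, ← hsucc, h2, sub_zero, neg_smul]
      · rw [← add_assoc, hsucc, h3, mulVec_sub, mulVec_neg, h2, ← hsucc, h4, sub_zero, neg_zero]
  have mono : ∀ {a b : ℕ} {v}, a ≤ b → N ^ a *ᵥ v = 0 → N ^ b *ᵥ v = 0 := by
    intro a b v hab h
    obtain ⟨d, rfl⟩ := Nat.exists_eq_add_of_le hab
    rw [add_comm, pow_add, ← mulVec_mulVec, h, mulVec_zero]
  constructor
  · refine ⟨2 * n, Matrix.ext fun a b => ?_⟩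
    have : N ^ (2 * n) *ᵥ Pi.single b (1 : F) = 0 := by
      rcases b with i | i
      · exact mono (by omega) (he _ i rfl).2
      · obtain ⟨c, -, -, h⟩ := hf (n - 1 - i.val) i (by omega)
        exact mono (by omega) h
    simpa using congrFun this a
  · intro h
    obtain ⟨c, hc, h1, -⟩ := hf (n - 1) ⟨0, by omega⟩ (by simp; omega)
    rw [show 2 * n - 1 = n + (n - 1) by omega] at h
    rw [h, zero_mulVec] at h1
    exact hc (by simpa [e0, eV] using (congrFun h1 (.inl ⟨0, by omega⟩)).symm)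

theorem spU_inv_eV_zero {i : Fin n} (h : i.val = 0) : ((spU last σ)⁻¹).1 *ᵥ eV i = eV i := by
  conv_lhs => rw [← spU_eV_zero (last := last) (σ := σ) h]
  rw [sp_inv_mulVec]

theorem spU_inv_eV_one {i k : Fin n} (hi : i.val = 0) (hk : k.val = 1) :
    ((spU last σ)⁻¹).1 *ᵥ eV k = eV k - eV i := by
  have h : (spU last σ).1 *ᵥ (eV k - eV i) = eV k := by
    rw [mulVec_sub, spU_eV_succ (i := i) (k := k) (by omega), spU_eV_zero hi, add_sub_cancel_right]
  conv_lhs => rw [← h]
  rw [sp_inv_mulVec]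

/-- A conjugate of `spU` differing from it by a transvection. -/
theorem transvection_of_conj {g : Matrix.symplecticGroup (Fin n) F} {c : F}
    {e : Fin n ⊕ Fin n → F} (h : (spU last σ)⁻¹ * g * spU last σ = stv c e * g) :
    stv c e = (spU last σ)⁻¹ * (g * spU last σ * g⁻¹) := by
  rw [← mul_assoc, ← mul_assoc, h, mul_inv_cancel_right]

theorem conj_odd (h2 : (2 : F) ≠ 0) {i k : Fin n} (hi : i.val = 0) (hk : k.val = 1) (c : F) :
    (spU last σ)⁻¹ * sX (eV i) (eV k) (-c / 2) * spU last σ =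
      stv c (eV i) * sX (eV i) (eV k) (-c / 2) := by
  have e : (spU last σ)⁻¹ * sX (eV i) (eV k) (-c / 2) * ((spU last σ)⁻¹)⁻¹ =
      stv c (eV i) * sX (eV i) (eV k) (-c / 2) := by
    rw [sX_conj, spU_inv_eV_zero hi, spU_inv_eV_one hi hk]
    refine sp_ext fun v => ?_
    have h0 : sbil (eV i) (eV k - eV i : Fin n ⊕ Fin n → F) = 0 := by simp [sbil_sub_right]
    simp only [sp_mul_mulVec, sX_mulVec h0, sX_mulVec (sbil_eV_eV i k), stv_mulVec, sbil_sub_left,
      sbil_add_right, sbil_smul_right, sbil_eV_eV]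
    match_scalars <;> field_simp <;> ring
  rwa [inv_inv] at e

theorem conj_two_big (h2 : (2 : F) = 0) {i k j : Fin n} (hi : i.val = 0) (hk : k.val = 1)
    (hj : j.val = 2) (c : F) :
    (spU last σ)⁻¹ * (stv c (eV k) * sX (eV i) (eV j) c) * spU last σ =
      stv c (eV i) * (stv c (eV k) * sX (eV i) (eV j) c) := by
  have hu : ((spU last σ)⁻¹).1 *ᵥ eV j = eV j - eV k + eV i := by
    have h : (spU last σ).1 *ᵥ (eV j - eV k + eV i) = eV j := by
      rw [mulVec_add, mulVec_sub, spU_eV_succ (i := k) (k := j) (by omega),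
        spU_eV_succ (i := i) (k := k) (by omega), spU_eV_zero hi]
      abel
    conv_lhs => rw [← h]
    rw [sp_inv_mulVec]
  have e : (spU last σ)⁻¹ * (stv c (eV k) * sX (eV i) (eV j) c) * ((spU last σ)⁻¹)⁻¹ =
      stv c (eV i) * (stv c (eV k) * sX (eV i) (eV j) c) := by
    rw [← conj_mul, stv_conj, sX_conj, spU_inv_eV_zero hi, spU_inv_eV_one hi hk, hu]
    refine sp_ext fun v => ?_
    have h0 : sbil (eV i) (eV j - eV k + eV i : Fin n ⊕ Fin n → F) = 0 := by
      simp [sbil_sub_right, sbil_add_right]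
    simp only [sp_mul_mulVec, sX_mulVec h0, sX_mulVec (sbil_eV_eV i j), stv_mulVec, sbil_sub_left,
      sbil_add_left, sbil_sub_right, sbil_add_right, sbil_smul_right, sbil_eV_eV]
    match_scalars <;> ring_nf <;> simp [h2, show (3 : F) = 1 by linear_combination h2]
  rwa [inv_inv] at e

theorem conj_two_small (h2 : (2 : F) = 0) {i k : Fin n} (hi : i.val = 0) (hk : k.val = 1)
    (hlast : last = k) (hn : last.val + 1 = n) (s : F) :
    (spU last σ)⁻¹ * (stv (σ * s) (eV k) * sX (eV i) (fV k) s) * spU last σ =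
      stv (σ * (s + s ^ 2)) (eV i) * (stv (σ * s) (eV k) * sX (eV i) (fV k) s) := by
  subst hlast
  have hu : ((spU last σ)⁻¹).1 *ᵥ fV last = fV last - σ • eV last + σ • eV i := by
    have h : (spU last σ).1 *ᵥ (fV last - σ • eV last + σ • eV i) = fV last := by
      rw [mulVec_add, mulVec_sub, mulVec_smul, mulVec_smul, spU_fV_last hn,
        spU_eV_succ (i := i) (k := last) (by omega), spU_eV_zero hi]
      module
    conv_lhs => rw [← h]
    rw [sp_inv_mulVec]
  have hne : i ≠ last := fun e => by rw [e] at hi; omega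
  have e : (spU last σ)⁻¹ * (stv (σ * s) (eV last) * sX (eV i) (fV last) s) * ((spU last σ)⁻¹)⁻¹ =
      stv (σ * (s + s ^ 2)) (eV i) * (stv (σ * s) (eV last) * sX (eV i) (fV last) s) := by
    rw [← conj_mul, stv_conj, sX_conj, spU_inv_eV_zero hi, spU_inv_eV_one hi hk, hu]
    refine sp_ext fun v => ?_
    have hif : sbil (eV i) (fV last : Fin n ⊕ Fin n → F) = 0 := by rw [sbil_eV_fV, if_neg hne]
    have h0 : sbil (eV i) (fV last - σ • eV last + σ • eV i : Fin n ⊕ Fin n → F) = 0 := by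
      simp [sbil_sub_right, sbil_add_right, sbil_smul_right, hif]
    simp only [sp_mul_mulVec, sX_mulVec h0, sX_mulVec hif, stv_mulVec, sbil_sub_left,
      sbil_add_left, sbil_sub_right, sbil_smul_left, sbil_add_right, sbil_smul_right, sbil_eV_eV,
      sbil_eV_fV, if_pos, if_neg hne, hif]
    match_scalars <;> ring_nf <;> simp [h2, show (3 : F) = 1 by linear_combination h2]
  rwa [inv_inv] at e

end CfsgLib.KnownA.SpGen
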