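import Cfsg.Agent.Lib.KnownA.SpGen.Main

/-!
Choice of parameters for generating the symplectic group by three conjugate regular unipotent
elements.
-/

set_option autoImplicit false

namespace CfsgLib.KnownA.SpGen

open Matrix CfsgLib.Classical

variable {F : Type*} [Field F] {n : ℕ}

theorem spV_fV_zero {last i : Fin n} {σ t : F} {ht : t ≠ 0} (h : i.val = 0) :
    (spV last σ t ht).1 *ᵥ fV i = fV i :=
  spV_conj (x := (-t) • eV i) (x' := (-t) • eV i)
    (by rw [mulVec_smul, spW_eV, smul_smul, neg_mul_neg, mul_inv_cancel₀ ht, one_smul])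
    (by rw [mulVec_smul, spU_eV_zero h])
    (by rw [mulVec_smul, spW_eV, smul_smul, neg_mul_neg, mul_inv_cancel₀ ht, one_smul])

set_option maxHeartbeats 1000000 in
/-- The group over the field of order four in dimension four. -/
theorem top_four (hq : Nat.card F = 4) (w : F) (hw2 : w ^ 2 = w + 1) (h2 : (2 : F) = 0)
    (ht : w ≠ 0) (H : Subgroup (Matrix.symplecticGroup (Fin 2) F))
    (hu : spU (1 : Fin 2) (1 : F) ∈ H) (hv : spV (1 : Fin 2) (1 : F) w ht ∈ H)
    (hT : stv (1 : F) (eV (0 : Fin 2)) ∈ H) : H = ⊤ := by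
  classical
  set U := spU (1 : Fin 2) (1 : F) with hU
  set W := spV (1 : Fin 2) (1 : F) w ht with hW
  let V : F → F → F → F → (Fin 2 ⊕ Fin 2 → F) := fun a b c d =>
    a • eV 0 + b • eV 1 + c • fV 0 + d • fV 1
  have hlast : (1 : Fin 2).val + 1 = 2 := rfl
  have h01 : (1 : Fin 2).val = (0 : Fin 2).val + 1 := rfl
  have c2 : ∀ x : F, -x = x := fun x => by linear_combination (-x) * h2
  have hρ : 1 / w ^ 2 = w := by
    rw [div_eq_iff (pow_ne_zero _ ht)]
    linear_combination (-w - 1) * hw2 + (-w) * h2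
  have n2 : ∀ v : Fin 2 ⊕ Fin 2 → F, -v = v := fun v => funext fun j => c2 (v j)
  have sub2 : ∀ a b : Fin 2 ⊕ Fin 2 → F, a - b = a + b := fun a b => by rw [sub_eq_add_neg, n2]
  have u0 : U.1 *ᵥ eV 0 = eV 0 := spU_eV_zero rfl
  have u1 : U.1 *ᵥ eV 1 = eV 1 + eV 0 := spU_eV_succ h01
  have uf1 : U.1 *ᵥ fV 1 = fV 1 + eV 1 := by rw [hU, spU_fV_last hlast, one_smul]
  have uf0 : U.1 *ᵥ fV 0 = fV 0 + fV 1 + eV 1 := by
    have := spU_fV_succ (σ := (1 : F)) hlast (i := (0 : Fin 2)) (k := 1) h01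
    rw [mulVec_add, ← hU, uf1] at this
    rw [eq_sub_of_add_eq this, sub2, add_assoc]
  have w1 : W.1 *ᵥ eV 1 = eV 1 + w • fV 1 := by rw [hW, spV_eV_last hlast, hρ, sub2]
  have w0 : W.1 *ᵥ eV 0 = eV 0 + eV 1 + w • fV 1 := by
    have := spV_eV_succ (σ := (1 : F)) (ht := ht) hlast (i := (0 : Fin 2)) (k := 1) h01
    rw [mulVec_add, ← hW, w1] at this
    rw [eq_sub_of_add_eq this, sub2, add_assoc]
  have wf1 : W.1 *ᵥ fV 1 = fV 1 + fV 0 := spV_fV_succ h01
  have wf0 : W.1 *ᵥ fV 0 = fV 0 := spV_fV_zero rfl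
  have hUV : ∀ a b c d, U.1 *ᵥ V a b c d = V (a + b) (b + c + d) c (c + d) := by
    intro a b c d
    simp only [V, mulVec_add, mulVec_smul, u0, u1, uf0, uf1]; module
  have hWV : ∀ a b c d, W.1 *ᵥ V a b c d = V a (a + b) (c + d) (w * (a + b) + d) := by
    intro a b c d
    simp only [V, mulVec_add, mulVec_smul, w0, w1, wf0, wf1]; module
  have hTV : ∀ a b c d, (stv (1 : F) (eV (0 : Fin 2))).1 *ᵥ V a b c d = V (a + c) b c d := by
    intro a b c d
    simp only [V, stv_mulVec, sbil_add_right, sbil_smul_right, sbil_eV_eV, sbil_eV_fV]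
    simp only [if_pos, if_neg (show ¬ (0 : Fin 2) = 1 by decide), c2]
    module
  have key : stv (1 : F) (w • eV (0 : Fin 2)) ∈ H := by
    have e0 : V 1 0 0 0 = eV 0 := by simp [V]
    have e1 : V w 0 0 0 = w • eV 0 := by simp [V]
    refine stv_orbit (g := W * W * U * W * stv (1 : F) (eV (0 : Fin 2)) * W * U * U * W)
      (mul_mem (mul_mem (mul_mem (mul_mem (mul_mem (mul_mem (mul_mem (mul_mem hv hv) hu) hv) hT) hv)
        hu) hu) hv) hT ?_
    rw [← e1]
    simp only [sp_mul_mulVec]
    conv_lhs =>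
      arg 2; arg 2; arg 2; arg 2; arg 2; arg 2; arg 2; arg 2; arg 2
      rw [← e0]
    rw [hWV, hUV, hUV, hWV, hTV, hWV, hUV, hWV, hWV]
    congr 1 <;> grind
  rw [stv_smul, one_mul] at key
  have hfull : Full H (eV (0 : Fin 2)) := by
    intro x
    have h1w : w ≠ 1 := fun e => by
      rw [e] at hw2; exact one_ne_zero (show (1 : F) = 0 by linear_combination -hw2)
    have : x = 0 ∨ x = 1 ∨ x = w ^ 2 ∨ x = 1 + w ^ 2 := by
      have : Finite F := Nat.finite_of_card_ne_zero (by omega)
      have : Fintype F := Fintype.ofFinite F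
      have h4 : ({0, 1, w ^ 2, 1 + w ^ 2} : Finset F).card = 4 := by
        rw [Finset.card_insert_of_notMem, Finset.card_insert_of_notMem,
          Finset.card_insert_of_notMem, Finset.card_singleton] <;>
          simp only [Finset.mem_insert, Finset.mem_singleton, not_or] <;>
          (try refine ⟨?_, ?_⟩) <;> (try refine ⟨?_, ?_, ?_⟩) <;> grind
      have huniv : ({0, 1, w ^ 2, 1 + w ^ 2} : Finset F) = Finset.univ :=
        Finset.eq_univ_of_card _ (by rw [h4, ← Nat.card_eq_fintype_card, hq])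
      have := huniv.symm ▸ Finset.mem_univ x
      simpa using this
    rcases this with rfl | rfl | rfl | rfl
    · rw [stv_zero]; exact one_mem H
    · exact hT
    · exact key
    · rw [← stv_mul]; exact mul_mem hT key
  exact closure_eq_top H U W hu hv (fun i k h => spU_eV_succ h) (fun i k h => spV_eV_succ hlast h)
    (fun i k h => spV_fV_succ h) 1 hlast (1 / w ^ 2) (by simp [ht]) (spV_eV_last hlast) 0 hfull

theorem pow_card_two_sub [Fintype F] {a : F} (ha : a ≠ 0) :
    a ^ (Fintype.card F - 2) = a⁻¹ := by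
  refine eq_inv_of_mul_eq_one_left ?_
  have := Fintype.one_lt_card (α := F)
  rw [← pow_succ, show Fintype.card F - 2 + 1 = Fintype.card F - 1 by omega,
    FiniteField.pow_card_sub_one_eq_one a ha]

/-- The conclusion for the chosen elements. -/
def ThreeSp (F : Type*) [Field F] (n : ℕ) : Prop :=
  ∃ u g h : Matrix.symplecticGroup (Fin n) F,
    IsNilpotent ((u : Matrix (Fin n ⊕ Fin n) (Fin n ⊕ Fin n) F) - 1) ∧
      ((u : Matrix (Fin n ⊕ Fin n) (Fin n ⊕ Fin n) F) - 1) ^ (2 * n - 1) ≠ 0 ∧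
      Subgroup.closure ({u, g * u * g⁻¹, h * u * h⁻¹} : Set (Matrix.symplecticGroup (Fin n) F)) = ⊤

theorem threeSp_of {last z : Fin n} (hn : 2 ≤ n) (hlast : last.val + 1 = n) {σ t c : F}
    (hσ : σ ≠ 0) (ht : t ≠ 0) {g : Matrix.symplecticGroup (Fin n) F}
    (hg : (spU last σ)⁻¹ * g * spU last σ = stv c (eV z) * g)
    (htop : ∀ H : Subgroup (Matrix.symplecticGroup (Fin n) F),
      spU last σ ∈ H → spV last σ t ht ∈ H → stv c (eV z) ∈ H → H = ⊤) : ThreeSp F n := by
  obtain ⟨h1, h2⟩ := spU_regular (last := last) (σ := σ) (by omega) hlast hσ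
  refine ⟨spU last σ, g, spW t ht, h1, h2, htop _ (Subgroup.subset_closure (by simp))
    (Subgroup.subset_closure (by simp [spV])) ?_⟩
  rw [transvection_of_conj hg]
  exact mul_mem (inv_mem (Subgroup.subset_closure (by simp))) (Subgroup.subset_closure (by simp))

theorem threeSp [Fintype F] (hn : 2 ≤ n) (h22 : ¬ (n = 2 ∧ Fintype.card F = 2)) : ThreeSp F n := by
  classical
  obtain ⟨ω, hω⟩ : ∃ ω : Fˣ, ∀ x, x ∈ Submonoid.powers ω := IsCyclic.exists_monoid_generator
  have hω0 : (ω : F) ≠ 0 := ω.ne_zero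
  let last : Fin n := ⟨n - 1, by omega⟩
  let z : Fin n := ⟨0, by omega⟩
  let k : Fin n := ⟨1, by omega⟩
  have hlast : last.val + 1 = n := by simp [last]; omega
  by_cases h2 : (2 : F) = 0
  swap
  · exact threeSp_of (t := (ω : F)) (c := 1) hn hlast (pow_ne_zero 2 hω0) hω0
      (conj_odd h2 (i := z) (k := k) rfl rfl 1) fun H hu hv hT =>
      top_of_field hn H last z hlast rfl ((ω : F) ^ 2) ω 1 hω0 hu hv hT
        (by rw [div_self (pow_ne_zero 2 hω0), one_mul])
        (by rw [div_one]; exact closure_gen_sq_eq_top hω)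
  have : CharP F 2 := CharTwo.of_one_ne_zero_of_two_eq_zero one_ne_zero h2
  have hsqrt : ∀ x : F, ∃ y, y ^ 2 = x := fun x =>
    (Finite.injective_iff_surjective.1 (frobenius_inj F 2)) x
  by_cases hn3 : 3 ≤ n
  · obtain ⟨t, ht⟩ := hsqrt ω
    have ht0 : t ≠ 0 := by rintro rfl; exact hω0 (by simpa using ht.symm)
    exact threeSp_of (t := t) (c := 1) hn hlast hω0 ht0
      (conj_two_big h2 (i := z) (k := k) (j := ⟨2, by omega⟩) rfl rfl rfl 1) fun H hu hv hT =>
      top_of_field hn H last z hlast rfl ω t 1 ht0 hu hv hT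
        (by rw [ht, div_self hω0, one_mul]) (by rw [div_one]; exact closure_gen_eq_top hω)
  obtain rfl : n = 2 := by omega
  have hk : last = k := Fin.ext rfl
  by_cases hq : 8 ≤ Nat.card F
  · obtain ⟨s, hs⟩ := exists_artin_schreier_gen hq
    have hs0 : s + s ^ 2 ≠ 0 := by
      intro e
      have hs' : Subring.closure ({s + s ^ 2} : Set F) = ⊥ :=
        le_bot_iff.1 (Subring.closure_le.2 (by rw [e, Set.singleton_subset_iff]; exact zero_mem _))
      rw [hs'] at hs
      have h1 : Nat.card (⊥ : Subring F) ≤ 2 := by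
        have : ((⊥ : Subring F) : Set F) ⊆ {0, 1} := by
          intro x hx
          obtain ⟨m, rfl⟩ := Subring.mem_bot.1 hx
          rcases Int.even_or_odd m with ⟨j, rfl⟩ | ⟨j, rfl⟩ <;>
            simp [CharTwo.add_self_eq_zero, h2]
        refine (Set.ncard_le_ncard this (Set.toFinite _)).trans ?_
        exact (Set.ncard_insert_le _ _).trans (by simp)
      rw [hs, Nat.card_congr (Equiv.subtypeUnivEquiv (p := (· ∈ (⊤ : Subring F))) fun _ => trivial)]
        at h1
      omega
    obtain ⟨t, ht⟩ := hsqrt (s + s ^ 2)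
    have ht0 : t ≠ 0 := by rintro rfl; exact hs0 (by simpa using ht.symm)
    exact threeSp_of (t := t) (c := 1 * (s + s ^ 2)) hn hlast one_ne_zero ht0
      (conj_two_small h2 (i := z) (k := k) rfl rfl hk hlast s) fun H hu hv hT =>
      top_of_field hn H last z hlast rfl 1 t (1 * (s + s ^ 2)) ht0 hu hv hT
        (by rw [ht, one_mul, mul_one_div, div_self hs0])
        (by
          rw [one_mul, one_div, ← hs]
          apply le_antisymm <;> rw [Subring.closure_le, Set.singleton_subset_iff]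
          · have := Subring.pow_mem _ (Subring.subset_closure (Set.mem_singleton (s + s ^ 2)))
              (Fintype.card F - 2)
            rwa [pow_card_two_sub hs0] at this
          · have := Subring.pow_mem _ (Subring.subset_closure (Set.mem_singleton (s + s ^ 2)⁻¹))
              (Fintype.card F - 2)
            rwa [pow_card_two_sub (inv_ne_zero hs0), inv_inv] at this)
  -- the field of order four
  have hq4 : Fintype.card F = 4 := by
    obtain ⟨m, -, hm⟩ := FiniteField.card F 2
    rw [Nat.card_eq_fintype_card, hm] at hq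
    rw [hm] at h22 ⊢
    have h3 : (m : ℕ) < 3 := by
      by_contra h
      exact hq (Nat.pow_le_pow_right (show 0 < 2 by omega) (show 3 ≤ (m : ℕ) by omega))
    have := m.pos
    interval_cases hh : (m : ℕ)
    · exact absurd ⟨rfl, rfl⟩ h22
    · rfl
  have hω1 : (ω : F) ≠ 1 := by
    intro e
    have : ω = 1 := Units.ext e
    have hall : ∀ x : Fˣ, x = 1 := fun x => by
      obtain ⟨j, hj⟩ := hω x; rw [← hj, this]; simp
    have h1 : Fintype.card Fˣ ≤ 1 := Fintype.card_le_one_iff.2 fun a b => by rw [hall a, hall b]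
    rw [Fintype.card_units, hq4] at h1
    omega
  have hw2 : (ω : F) ^ 2 = (ω : F) + 1 := by
    have h3 : (ω : F) ^ 3 = 1 := by
      simpa [hq4] using FiniteField.pow_card_sub_one_eq_one (ω : F) hω0
    have : ((ω : F) - 1) * ((ω : F) ^ 2 + (ω : F) + 1) = 0 := by linear_combination h3
    have h4 := (mul_eq_zero.1 this).resolve_left (sub_ne_zero.2 hω1)
    linear_combination h4 - ((ω : F) + 1) * h2
  refine threeSp_of (t := (ω : F)) (c := 1 * ((ω : F) + (ω : F) ^ 2)) hn hlast one_ne_zero hω0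
    (conj_two_small h2 (i := z) (k := k) rfl rfl hk hlast ω) fun H hu hv hT => ?_
  have e : (1 : F) * ((ω : F) + (ω : F) ^ 2) = 1 := by
    linear_combination hw2 + (ω : F) * h2
  rw [e] at hT
  exact top_four (by rw [Nat.card_eq_fintype_card, hq4]) (ω : F) hw2 h2 hω0 H hu hv hT

end CfsgLib.KnownA.SpGen
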