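import Cfsg.Agent.Lib.KnownA.SpGen.Elements

/-!
The symplectic group is generated by three conjugate regular unipotent elements.
-/

set_option autoImplicit false

namespace CfsgLib.KnownA.SpGen

open Matrix CfsgLib.Classical

variable {F : Type*} [Field F] {n : ℕ}

set_option maxHeartbeats 1000000 in
/-- The main criterion. -/
theorem top_of_field [Finite F] (hn : 2 ≤ n) (H : Subgroup (Matrix.symplecticGroup (Fin n) F))
    (last z : Fin n) (hlast : last.val + 1 = n) (hz : z.val = 0) (σ t c : F) (ht : t ≠ 0)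
    (hu : spU last σ ∈ H) (hw : spV last σ t ht ∈ H) (hT : stv c (eV z) ∈ H)
    (hc : c * (σ / t ^ 2) = 1) (hτ : Subring.closure ({σ / c} : Set F) = ⊤) : H = ⊤ := by
  have hc0 : c ≠ 0 := by rintro rfl; simp at hc
  have hρ : σ / t ^ 2 = c⁻¹ := eq_inv_of_mul_eq_one_right hc
  set u := spU last σ
  set w := spV last σ t ht
  have hwn : w.1 *ᵥ eV last = eV last - c⁻¹ • fV last := by rw [← hρ]; exact spV_eV_last hlast
  have hwe : ∀ i k : Fin n, k.val = i.val + 1 → w.1 *ᵥ (eV i + eV k) = eV i :=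
    fun i k h => spV_eV_succ hlast h
  have hue : ∀ i k : Fin n, k.val = i.val + 1 → u.1 *ᵥ eV k = eV k + eV i :=
    fun i k h => spU_eV_succ h
  have hsum : ∀ i k : Fin n, k.val = i.val + 1 → stv c (eV i) ∈ H → stv c (eV i + eV k) ∈ H :=
    fun i k h hi => stv_orbit (inv_mem hw) hi (by
      have := congrArg (fun v => (w⁻¹).1 *ᵥ v) (hwe i k h)
      simp only [sp_inv_mulVec] at this
      exact this.symm)
  have he : ∀ m : ℕ, ∀ i : Fin n, i.val = m → stv c (eV i) ∈ H := by
    intro m
    induction m with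
    | zero => intro i hi; rwa [show i = z from Fin.ext (by omega)]
    | succ m ih =>
      intro i hi
      refine stv_orbit (inv_mem hu) (hsum ⟨m, by omega⟩ i hi (ih _ rfl)) ?_
      have e := congrArg (fun v => (u⁻¹).1 *ᵥ v) (hue ⟨m, by omega⟩ i hi)
      simp only [sp_inv_mulVec] at e
      rw [add_comm]; exact e.symm
  let a : Fin n := ⟨n - 2, by omega⟩
  have hab : last.val = a.val + 1 := by simp [a]; omega
  have hne : a ≠ last := fun e => by rw [e] at hab; omega
  have ha : stv c (eV a) ∈ H := he _ a rfl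
  have hb : stv c (eV last) ∈ H := he _ last rfl
  have hcc : c * c⁻¹ = 1 := mul_inv_cancel₀ hc0
  set f : Fin n ⊕ Fin n → F := c⁻¹ • fV last with hf
  set a' : Fin n ⊕ Fin n → F := c⁻¹ • fV a with ha'
  have Bbf : sbil (eV last) f = -c⁻¹ := by
    rw [hf, sbil_smul_right, sbil_eV_fV, if_pos rfl, mul_neg, mul_one]
  have Bfb : sbil f (eV last) = c⁻¹ := by rw [sbil_swap, Bbf, neg_neg]
  have Baa' : sbil (eV a) a' = -c⁻¹ := by
    rw [ha', sbil_smul_right, sbil_eV_fV, if_pos rfl, mul_neg, mul_one]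
  have Baf : sbil (eV a) f = 0 := by rw [hf, sbil_smul_right, sbil_eV_fV, if_neg hne, mul_zero]
  have Bfa : sbil f (eV a) = 0 := by rw [sbil_swap, Baf, neg_zero]
  have Bba' : sbil (eV last) a' = 0 := by
    rw [ha', sbil_smul_right, sbil_eV_fV, if_neg hne.symm, mul_zero]
  have Bfa' : sbil f a' = 0 := by simp [hf, ha', sbil_smul_left, sbil_smul_right]
  have hfS : stv c f ∈ H := by
    have h1 : stv c (-f) ∈ H := stv_orbit (inv_mem hb) (stv_orbit hw hb hwn) (by
      rw [stv_inv, stv_mulVec, sbil_sub_right, sbil_eV_eV]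
      try rw [← hf]
      rw [Bbf]
      match_scalars <;> field_simp <;> ring)
    rwa [← neg_one_smul F f, stv_smul, neg_one_sq, mul_one] at h1
  obtain ⟨r, hr, hra, hrb, hra'⟩ : ∃ r ∈ H, r.1 *ᵥ eV a = eV a ∧ r.1 *ᵥ eV last = f ∧
      r.1 *ᵥ a' = a' := by
    refine ⟨stv c (eV last) * stv c f * stv c (eV last), mul_mem (mul_mem hb hfS) hb, ?_, ?_, ?_⟩
    · simp only [sp_mul_mulVec, stv_mulVec, sbil_eV_eV, Bfa, mul_zero, zero_smul, add_zero]
    · simp only [sp_mul_mulVec, stv_mulVec, sbil_eV_eV, Bbf, Bfb, sbil_add_right, sbil_smul_right,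
        sbil_self]
      match_scalars <;> field_simp <;> ring
    · simp only [sp_mul_mulVec, stv_mulVec, Bba', Bfa', mul_zero, zero_smul, add_zero]
  have haf : stv c (eV a + f) ∈ H :=
    stv_orbit hr (hsum a last hab ha) (by rw [mulVec_add, hra, hrb])
  have hy : stv c (f + a') ∈ H := stv_orbit hw hfS (by
    rw [hf, ha', mulVec_smul, show w.1 *ᵥ fV last = fV last + fV a from spV_fV_succ hab, smul_add])
  have hXaf : sX (eV a) f c ∈ H := sX_mem ha hfS haf
  have ha'S : stv c a' ∈ H := stv_orbit hXaf hy (by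
    rw [sX_mulVec Baf]
    simp only [sbil_add_right, Baf, Baa', sbil_self, Bfa', add_zero, zero_add, zero_smul]
    match_scalars <;> field_simp <;> ring)
  have hba' : stv c (eV last + a') ∈ H := stv_orbit (inv_mem hr) hy (by
    rw [show f + a' = r.1 *ᵥ (eV last + a') by rw [mulVec_add, hrb, hra'], sp_inv_mulVec])
  have hzS : stv c (f + (σ / c) • eV last) ∈ H := stv_orbit hu hfS (by
    rw [hf, mulVec_smul, spU_fV_last hlast]
    match_scalars <;> field_simp)
  have full : Full H (eV a) := pairField H c (σ / c) (eV a) (eV last) f a' hc0 (sbil_eV_eV _ _)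
    Baf Bba' Bfa' Bbf Baa' ha hb hfS ha'S (hsum a last hab ha) hba' hzS hτ
  exact closure_eq_top H u w hu hw hue hwe (fun i k h => spV_fV_succ h) last hlast c⁻¹
    (inv_ne_zero hc0) hwn a full

theorem not_mem_sq_le [Finite F] {R : Subring F} (hR : R ≠ ⊤) :
    Nat.card R ^ 2 ≤ Nat.card F := by
  obtain ⟨y, hy⟩ : ∃ y, y ∉ R := by
    by_contra h
    push Not at h
    exact hR (eq_top_iff.2 fun x _ => h x)
  rw [sq, ← Nat.card_prod]
  refine Nat.card_le_card_of_injective (fun pq : R × R => (pq.1 : F) + pq.2 * y) ?_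
  rintro ⟨p, q⟩ ⟨p', q'⟩ h
  by_cases hq : q = q'
  · subst hq
    simp only [add_left_inj] at h
    rw [Subtype.ext h]
  · exfalso
    apply hy
    have hne : q - q' ≠ 0 := sub_ne_zero.2 hq
    obtain ⟨d, hd⟩ : ∃ d : R, (q - q') * d = 1 :=
      (Finite.injective_iff_surjective.1 (mul_right_injective₀ hne)) 1
    have hd' : ((q : F) - q') * d = 1 := by exact_mod_cast congrArg (Subtype.val) hd
    have : y = ((p' : F) - p) * d := by
      simp only at h
      linear_combination (d : F) * h - y * hd'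
    rw [this]
    exact R.mul_mem (R.sub_mem p'.2 p.2) d.2

theorem closure_gen_eq_top [Finite F] {ω : Fˣ} (hω : ∀ x, x ∈ Submonoid.powers ω) :
    Subring.closure ({(ω : F)} : Set F) = ⊤ := by
  refine eq_top_iff.2 fun x _ => ?_
  by_cases hx : x = 0
  · subst hx; exact zero_mem _
  obtain ⟨k, hk⟩ := hω (Units.mk0 x hx)
  have : (ω : F) ^ k = x := by simpa using congrArg Units.val hk
  rw [← this]
  exact Subring.pow_mem _ (Subring.subset_closure (Set.mem_singleton _)) k

set_option maxHeartbeats 1000000 in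
theorem closure_gen_sq_eq_top [Finite F] {ω : Fˣ} (hω : ∀ x, x ∈ Submonoid.powers ω) :
    Subring.closure ({(ω : F) ^ 2} : Set F) = ⊤ := by
  classical
  by_contra hR
  set R := Subring.closure ({(ω : F) ^ 2} : Set F)
  have h2 := not_mem_sq_le hR
  let G : Set F := R
  have hcov : (Set.univ : Set F) ⊆ G ∪ (fun r => (ω : F) * r) '' (G \ {0}) := by
    intro x _
    by_cases hx : x = 0
    · exact .inl (hx ▸ R.zero_mem)
    obtain ⟨k, hk⟩ := hω (Units.mk0 x hx)
    have hk' : (ω : F) ^ k = x := by simpa using congrArg Units.val hk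
    have hpow : ∀ m : ℕ, ((ω : F) ^ 2) ^ m ∈ G := fun m =>
      R.pow_mem (Subring.subset_closure rfl) m
    rcases Nat.even_or_odd k with ⟨m, rfl⟩ | ⟨m, rfl⟩
    · exact .inl (by rw [← hk', ← two_mul, pow_mul]; exact hpow m)
    · refine .inr ⟨((ω : F) ^ 2) ^ m, ⟨hpow m, by simp⟩, ?_⟩
      show (ω : F) * ((ω : F) ^ 2) ^ m = x
      rw [← hk', pow_succ (ω : F) (2 * m), ← pow_mul, mul_comm]
  have h3 := (Set.ncard_le_ncard hcov (Set.toFinite _)).trans (Set.ncard_union_le _ _)
  have h4 := Set.ncard_image_le (f := fun r => (ω : F) * r) (Set.toFinite (G \ {0}))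
  rw [Set.ncard_sdiff_singleton_of_mem (show (0 : F) ∈ G from R.zero_mem)] at h4
  rw [Set.ncard_univ] at h3
  have h5 : G.ncard = Nat.card R := (Nat.card_coe_set_eq _).symm
  have h6 : 2 ≤ Nat.card R := by
    have : Nontrivial R := inferInstance
    exact Finite.one_lt_card
  rw [h5] at h3 h4
  nlinarith [h2, h3, h4, h6, Nat.sub_add_cancel (show 1 ≤ Nat.card R by omega)]

/-- In characteristic two a field of order at least 8 is generated by some `s + s ^ 2`. -/
theorem exists_artin_schreier_gen [Finite F] [CharP F 2] (hq : 8 ≤ Nat.card F) :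
    ∃ s : F, Subring.closure ({s + s ^ 2} : Set F) = ⊤ := by
  classical
  have : Fintype F := Fintype.ofFinite F
  obtain ⟨m, hm2, hm⟩ := FiniteField.card F 2
  rw [Nat.card_eq_fintype_card, hm] at hq
  have hm3 : 3 ≤ (m : ℕ) := by
    by_contra h
    have := Nat.pow_le_pow_right (show 0 < 2 by omega) (show (m : ℕ) ≤ 2 by omega)
    omega
  by_contra hcon
  push Not at hcon
  let S : ℕ → Finset F := fun d => Finset.univ.filter fun x => x ^ (2 ^ d) = x
  have hS : ∀ d, 1 ≤ d → (S d).card ≤ 2 ^ d := by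
    intro d hd
    have hne : (Polynomial.X ^ (2 ^ d) - Polynomial.X : Polynomial F) ≠ 0 :=
      FiniteField.X_pow_card_pow_sub_X_ne_zero F (by omega) (by omega : 1 < 2)
    have hdeg : (Polynomial.X ^ (2 ^ d) - Polynomial.X : Polynomial F).natDegree = 2 ^ d :=
      FiniteField.X_pow_card_pow_sub_X_natDegree_eq F (by omega) (by omega : 1 < 2)
    rw [← hdeg]
    refine Polynomial.card_le_degree_of_subset_roots ?_
    intro x hx
    rw [Polynomial.mem_roots hne]
    have : x ^ (2 ^ d) = x := (Finset.mem_filter.1 hx).2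
    simp [this]
  have hsub : Finset.univ.image (fun s : F => s + s ^ 2) ⊆
      (Finset.Icc 1 ((m : ℕ) / 2)).biUnion S := by
    intro x hx
    obtain ⟨s, -, rfl⟩ := Finset.mem_image.1 hx
    have hne := hcon s
    set R := Subring.closure ({s + s ^ 2} : Set F)
    have h2 := not_mem_sq_le hne
    have hdvd : Nat.card R ∣ Nat.card F := AddSubgroup.card_addSubgroup_dvd_card R.toAddSubgroup
    rw [Nat.card_eq_fintype_card (α := F), hm] at hdvd h2
    obtain ⟨d, -, hd⟩ := (Nat.dvd_prime_pow Nat.prime_two).1 hdvd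
    have h1 : 1 < Nat.card R := Finite.one_lt_card
    refine Finset.mem_biUnion.2 ⟨d, Finset.mem_Icc.2 ⟨?_, ?_⟩, Finset.mem_filter.2
      ⟨Finset.mem_univ _, ?_⟩⟩
    · by_contra h
      rw [show d = 0 by omega] at hd; omega
    · rw [hd, ← pow_mul] at h2
      have := (Nat.pow_le_pow_iff_right (by omega : 1 < 2)).1 h2
      omega
    · letI := Fintype.ofFinite R
      letI := Fintype.fieldOfDomain R
      have := FiniteField.pow_card (⟨s + s ^ 2, Subring.subset_closure rfl⟩ : R)
      rw [← Nat.card_eq_fintype_card, hd] at this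
      exact congrArg Subtype.val this
  have hlow : Fintype.card F ≤ 2 * (Finset.univ.image (fun s : F => s + s ^ 2)).card := by
    refine Finset.card_le_mul_card_image _ 2 fun b hb => ?_
    obtain ⟨a, -, rfl⟩ := Finset.mem_image.1 hb
    refine (Finset.card_le_card (t := ({a, a + 1} : Finset F)) ?_).trans Finset.card_le_two
    intro x hx
    have h : x + x ^ 2 = a + a ^ 2 := (Finset.mem_filter.1 hx).2
    have h2 : (2 : F) = 0 := CharTwo.two_eq_zero
    have : (x - a) * (x - (a + 1)) = 0 := by linear_combination h + (a * a - a * x + a - x) * h2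
    rcases mul_eq_zero.1 this with h | h <;> simp [sub_eq_zero.1 h]
  have hup := ((Finset.card_le_card hsub).trans Finset.card_biUnion_le).trans
    (Finset.sum_le_sum fun d hd => hS d (Finset.mem_Icc.1 hd).1)
  have hgeom : ∀ k, (∑ d ∈ Finset.Icc 1 k, 2 ^ d) + 2 = 2 ^ (k + 1) := by
    intro k
    induction k with
    | zero => simp
    | succ k ih => rw [Finset.sum_Icc_succ_top (by omega), pow_succ 2 (k + 1), ← ih]; ring
  have h7 := hgeom ((m : ℕ) / 2)
  have h8 : 2 ^ ((m : ℕ) / 2 + 1) ≤ 2 ^ ((m : ℕ) - 1) :=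
    Nat.pow_le_pow_right (by omega) (by omega)
  have h9 : 2 * 2 ^ ((m : ℕ) - 1) = 2 ^ (m : ℕ) := by
    rw [← pow_succ']; congr 1; omega
  omega

end CfsgLib.KnownA.SpGen
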