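import Cfsg.Agent.Lib.Classical.SympBasic

/-!
A subgroup of the symplectic group containing suitable transvections of one coefficient on two
hyperbolic pairs contains a whole transvection group.
-/

set_option autoImplicit false

namespace CfsgLib.KnownA.SpGen

open Matrix CfsgLib.Classical

variable {l : Type*} [Fintype l] [DecidableEq l] {F : Type*} [Field F]

/-- The short root element attached to two orthogonal vectors. -/
def sX (a b : l ⊕ l → F) (t : F) : Matrix.symplecticGroup l F :=
  stv t (a + b) * stv (-t) a * stv (-t) b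

theorem sX_mulVec {a b : l ⊕ l → F} (h : sbil a b = 0) (t : F) (x : l ⊕ l → F) :
    (sX a b t).1 *ᵥ x = x + t • (sbil a x • b + sbil b x • a) := by
  have h' : sbil b a = 0 := by rw [sbil_swap, h, neg_zero]
  simp only [sX, sp_mul_mulVec, stv_mulVec, sbil_add_left, sbil_add_right, sbil_smul_right,
    sbil_self, h, h']
  module

theorem sX_conj (g : Matrix.symplecticGroup l F) (a b : l ⊕ l → F) (t : F) :
    g * sX a b t * g⁻¹ = sX (g.1 *ᵥ a) (g.1 *ᵥ b) t := by
  simp only [sX, conj_mul.symm, stv_conj, mulVec_add]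

theorem sX_add {a b : l ⊕ l → F} (h : sbil a b = 0) (s t : F) :
    sX a b s * sX a b t = sX a b (s + t) := by
  have h' : sbil b a = 0 := by rw [sbil_swap, h, neg_zero]
  refine sp_ext fun x => ?_
  simp only [sp_mul_mulVec, sX_mulVec h, sbil_add_right, sbil_smul_right, sbil_self, h, h']
  module

theorem sX_stv_comm {a b : l ⊕ l → F} (h : sbil a b = 0) (s t : F) :
    sX a b s * stv t a = stv t a * sX a b s := by
  have h' : sbil b a = 0 := by rw [sbil_swap, h, neg_zero]
  refine sp_ext fun x => ?_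
  simp only [sp_mul_mulVec, sX_mulVec h, stv_mulVec, sbil_add_right, sbil_smul_right, sbil_self, h, h']
  module

theorem sX_mem {H : Subgroup (Matrix.symplecticGroup l F)} {a b : l ⊕ l → F} {c : F}
    (ha : stv c a ∈ H) (hb : stv c b ∈ H) (hab : stv c (a + b) ∈ H) : sX a b c ∈ H := by
  unfold sX
  rw [← stv_inv c a, ← stv_inv c b]
  exact mul_mem (mul_mem hab (inv_mem ha)) (inv_mem hb)

theorem stv_orbit {H : Subgroup (Matrix.symplecticGroup l F)} {g : Matrix.symplecticGroup l F}
    (hg : g ∈ H) {c : F} {v w : l ⊕ l → F} (hv : stv c v ∈ H) (he : g.1 *ᵥ v = w) :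
    stv c w ∈ H := by
  rw [← he, ← stv_conj]
  exact mul_mem (mul_mem hg hv) (inv_mem hg)

set_option maxHeartbeats 1000000 in
/-- The full transvection group of `a`. -/
theorem pairField [Finite F] (H : Subgroup (Matrix.symplecticGroup l F)) (c τ : F) (a b f a' : l ⊕ l → F)
    (hc : c ≠ 0) (hab : sbil a b = 0) (haf : sbil a f = 0) (hba' : sbil b a' = 0)
    (hfa' : sbil f a' = 0) (hbf : sbil b f = -c⁻¹) (haa' : sbil a a' = -c⁻¹)
    (ha : stv c a ∈ H) (hb : stv c b ∈ H) (hf : stv c f ∈ H) (ha' : stv c a' ∈ H)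
    (habS : stv c (a + b) ∈ H) (hba'S : stv c (b + a') ∈ H) (hz : stv c (f + τ • b) ∈ H)
    (hτ : Subring.closure ({τ} : Set F) = ⊤) (x : F) : stv x a ∈ H := by
  have hba : sbil b a = 0 := by rw [sbil_swap, hab, neg_zero]
  have hfa : sbil f a = 0 := by rw [sbil_swap, haf, neg_zero]
  have ha'b : sbil a' b = 0 := by rw [sbil_swap, hba', neg_zero]
  have ha'f : sbil a' f = 0 := by rw [sbil_swap, hfa', neg_zero]
  have hfb : sbil f b = c⁻¹ := by rw [sbil_swap, hbf, neg_neg]
  have ha'a : sbil a' a = c⁻¹ := by rw [sbil_swap, haa', neg_neg]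
  have hcc : c * c⁻¹ = 1 := mul_inv_cancel₀ hc
  -- the element interchanging `b` and `f`
  obtain ⟨r, hr, hra, hrb⟩ : ∃ r ∈ H, r.1 *ᵥ a = a ∧ r.1 *ᵥ b = f := by
    refine ⟨stv c b * stv c f * stv c b, mul_mem (mul_mem hb hf) hb, ?_, ?_⟩
    · simp only [sp_mul_mulVec, stv_mulVec, hba, hfa, mul_zero, zero_smul, add_zero]
    · simp only [sp_mul_mulVec, stv_mulVec, sbil_add_right, sbil_smul_right, sbil_self, hbf, hfb]
      match_scalars <;> field_simp <;> ring
  have haf' : stv c (a + f) ∈ H := stv_orbit hr habS (by rw [mulVec_add, hra, hrb])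
  have hXab : sX a b c ∈ H := sX_mem ha hb habS
  have hXaf : sX a f c ∈ H := sX_mem ha hf haf'
  have hXba' : sX b a' c ∈ H := sX_mem hb ha' hba'S
  obtain ⟨s, hs, hsa, hsb⟩ : ∃ s ∈ H, s.1 *ᵥ a = -b ∧ s.1 *ᵥ b = a := by
    have hy : ∀ v, ((sX b a' c)⁻¹).1 *ᵥ v = v - c • (sbil b v • a' + sbil a' v • b) := by
      intro v
      have := sp_inv_mulVec (sX b a' c) (v - c • (sbil b v • a' + sbil a' v • b))
      rw [← this]
      congr 1
      rw [sX_mulVec hba']
      simp only [sbil_sub_right, sbil_add_right, sbil_smul_right, sbil_self, hba', ha'b]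
      module
    refine ⟨sX a f c * (sX b a' c)⁻¹ * sX a f c, mul_mem (mul_mem hXaf (inv_mem hXba')) hXaf, ?_, ?_⟩
    · simp only [sp_mul_mulVec, sX_mulVec haf, hy, sbil_add_right, sbil_sub_right, sbil_smul_right,
        sbil_self, hba, hfa, haf, hab, ha'b, hba', hfb, ha'a]
      match_scalars <;> field_simp <;> ring
    · simp only [sp_mul_mulVec, sX_mulVec haf, hy, sbil_add_right, sbil_sub_right, sbil_smul_right,
        sbil_self, hba, hfa, haf, hab, ha'b, hba', hfb, ha'a]
      match_scalars <;> field_simp <;> ring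
  -- the pairs
  let P : F → F → Prop := fun m j => sX a b (c * m) * stv (c * j) a ∈ H
  have h0 : P 0 0 := by
    show sX a b (c * 0) * stv (c * 0) a ∈ H
    have : sX a b (c * 0) = 1 := by simp [sX]
    rw [this, mul_zero, stv_zero, mul_one]
    exact one_mem H
  have hadd : ∀ {m j m' j'}, P m j → P m' j' → P (m + m') (j + j') := by
    intro m j m' j' h h'
    show sX a b (c * (m + m')) * stv (c * (j + j')) a ∈ H
    have := mul_mem h h'
    rwa [mul_assoc (sX a b (c * m)), ← mul_assoc (stv (c * j) a), ← sX_stv_comm hab,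
      mul_assoc (sX a b (c * m')), stv_mul, ← mul_assoc, sX_add hab, ← mul_add, ← mul_add] at this
  have hneg : ∀ {m j}, P m j → P (-m) (-j) := by
    intro m j h
    show sX a b (c * -m) * stv (c * -j) a ∈ H
    have e : (sX a b (c * m) * stv (c * j) a) * (sX a b (c * -m) * stv (c * -j) a) = 1 := by
      rw [mul_assoc (sX a b (c * m)), ← mul_assoc (stv (c * j) a), ← sX_stv_comm hab,
        mul_assoc (sX a b (c * -m)), stv_mul, ← mul_assoc, sX_add hab, ← mul_add, ← mul_add]
      simp [sX]
    rw [← inv_eq_of_mul_eq_one_right e]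
    exact inv_mem h
  have h10 : P 1 0 := by
    show sX a b (c * 1) * stv (c * 0) a ∈ H
    rwa [mul_one, mul_zero, stv_zero, mul_one]
  have h01 : P 0 1 := by
    show sX a b (c * 0) * stv (c * 1) a ∈ H
    have : sX a b (c * 0) = 1 := by simp [sX]
    rwa [this, mul_one, one_mul]
  -- back from the pair `a`, `f`
  have back : ∀ {m j}, sX a f (c * m) * stv (c * j) a ∈ H → P m j := by
    intro m j h
    have e : r * (sX a b (c * m) * stv (c * j) a) * r⁻¹ = sX a f (c * m) * stv (c * j) a := by
      rw [← conj_mul, sX_conj, stv_conj, hra, hrb]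
    rw [← e] at h
    have := mul_mem (mul_mem (inv_mem hr) h) hr
    simpa [mul_assoc, P] using this
  have key : ∀ {m j m' j'}, P m j → P m' j' → P (m * j') (-2 * m * m' - m ^ 2 * j') := by
    intro m j m' j' h h'
    obtain ⟨g, hg, hga, hgb⟩ : ∃ g ∈ H, g.1 *ᵥ a = -f ∧ g.1 *ᵥ b = a := by
      refine ⟨r * s, mul_mem hr hs, ?_, ?_⟩
      · rw [sp_mul_mulVec, hsa, mulVec_neg, hrb]
      · rw [sp_mul_mulVec, hsb, hra]
    have hY : sX (-f) a (c * m') * stv (c * j') (-f) ∈ H := by
      have e : g * (sX a b (c * m') * stv (c * j') a) * g⁻¹ =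
          sX (-f) a (c * m') * stv (c * j') (-f) := by
        rw [← conj_mul, sX_conj, stv_conj, hga, hgb]
      rw [← e]
      exact mul_mem (mul_mem hg h') (inv_mem hg)
    set Y := sX (-f) a (c * m') * stv (c * j') (-f) with hYdef
    have hnfa : sbil (-f) a = 0 := by rw [← neg_one_smul F f, sbil_smul_left, hfa, mul_zero]
    have hYa : Y.1 *ᵥ a = a := by
      simp only [hYdef, sp_mul_mulVec, stv_mulVec, hnfa, mul_zero, zero_smul, add_zero,
        sX_mulVec hnfa, sbil_self, smul_zero]
    have hYb : Y.1 *ᵥ b = b + j' • f - m' • a := by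
      have hnf : ∀ v, sbil (-f) v = -sbil f v := fun v => by
        rw [← neg_one_smul F f, sbil_smul_left, neg_one_mul]
      have hfn : ∀ v, sbil v (-f) = -sbil v f := fun v => by
        rw [← neg_one_smul F f, sbil_smul_right, neg_one_mul]
      simp only [hYdef, sp_mul_mulVec, stv_mulVec, sX_mulVec hnfa, sbil_add_right, sbil_smul_right,
        hnf, hfn, sbil_self, hfb, hab, haf, hfa]
      match_scalars <;> field_simp <;> ring
    have hK := mul_mem (mul_mem (mul_mem hY h) (inv_mem hY)) (inv_mem h)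
    have e : Y * (sX a b (c * m) * stv (c * j) a) * Y⁻¹ * (sX a b (c * m) * stv (c * j) a)⁻¹ =
        sX a f (c * (m * j')) * stv (c * (-2 * m * m' - m ^ 2 * j')) a := by
      rw [← conj_mul, sX_conj, stv_conj, hYa, hYb, _root_.mul_inv_rev, ← mul_assoc,
        mul_assoc (sX a _ _) (stv (c * j) a), mul_inv_cancel, mul_one, mul_inv_eq_iff_eq_mul]
      have hab' : sbil a (b + j' • f - m' • a) = 0 := by
        simp [sbil_sub_right, sbil_add_right, sbil_smul_right, hab, haf]
      refine sp_ext fun v => ?_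
      simp only [sp_mul_mulVec, sX_mulVec hab', sX_mulVec hab, sX_mulVec haf, stv_mulVec,
        sbil_add_right, sbil_smul_right, sbil_add_left, sbil_sub_left, sbil_smul_left, sbil_self,
        hab, haf, hba, hfa, hfb]
      match_scalars <;> field_simp <;> ring
    rw [e] at hK
    exact back hK
  -- the field parameter
  have hττ : P τ τ := by
    have hz' : stv c (f + τ • b - a) ∈ H := by
      refine stv_orbit hXab hz ?_
      simp only [sX_mulVec hab, sbil_add_right, sbil_smul_right, sbil_self, hab, haf, hbf]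
      match_scalars <;> field_simp <;> ring
    have hY := mul_mem hz (inv_mem hz')
    have e : stv c (f + τ • b) * (stv c (f + τ • b - a))⁻¹ =
        sX a b (c * τ) * sX a f c * stv (c * (τ - 1)) a := by
      rw [mul_inv_eq_iff_eq_mul]
      refine sp_ext fun v => ?_
      simp only [sp_mul_mulVec, sX_mulVec hab, sX_mulVec haf, stv_mulVec, sbil_add_right,
        sbil_smul_right, sbil_add_left, sbil_sub_left, sbil_sub_right, sbil_smul_left, sbil_self,
        hab, haf, hba, hfa, hfb, hbf]
      match_scalars <;> field_simp <;> ring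
    rw [e] at hY
    have h1 : P τ (τ - 1) := by
      show sX a b (c * τ) * stv (c * (τ - 1)) a ∈ H
      have e2 : sX a b (c * τ) * sX a f c * stv (c * (τ - 1)) a =
          sX a b (c * τ) * stv (c * (τ - 1)) a * sX a f c := by
        rw [mul_assoc, sX_stv_comm haf, ← mul_assoc]
      rw [e2] at hY
      exact (Subgroup.mul_mem_cancel_right H hXaf).1 hY
    have := hadd h1 h01
    simpa using this
  -- the first coordinates form the whole field
  have hM : ∀ m, ∃ j, P m j := by
    let M : AddSubgroup F :=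
      { carrier := {m | ∃ j, P m j}
        add_mem' := fun ⟨j, hj⟩ ⟨j', hj'⟩ => ⟨_, hadd hj hj'⟩
        zero_mem' := ⟨0, h0⟩
        neg_mem' := fun ⟨j, hj⟩ => ⟨_, hneg hj⟩ }
    let R : Subring F :=
      { carrier := {y | ∀ m ∈ M, y * m ∈ M}
        mul_mem' := fun {p q} hp hq m hm => by rw [mul_assoc]; exact hp _ (hq m hm)
        one_mem' := fun m hm => by rw [one_mul]; exact hm
        add_mem' := fun {p q} hp hq m hm => by rw [add_mul]; exact add_mem (hp m hm) (hq m hm)
        zero_mem' := fun m _ => by rw [zero_mul]; exact zero_mem M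
        neg_mem' := fun {p} hp m hm => by rw [neg_mul]; exact neg_mem (hp m hm) }
    have hR : R = ⊤ := by
      rw [eq_top_iff, ← hτ, Subring.closure_le]
      intro y hy
      rw [Set.mem_singleton_iff] at hy
      subst hy
      rintro m ⟨j, hj⟩
      exact ⟨_, mul_comm m y ▸ key hj hττ⟩
    intro m
    have := (hR.symm ▸ trivial : m ∈ R) 1 ⟨0, h10⟩
    rwa [mul_one] at this
  have two : ∀ m, P 0 (2 * m) := fun m => by
    obtain ⟨j, hj⟩ := hM m
    have := hneg (key hj h10)
    simpa using this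
  have fin : ∀ y, P 0 y → stv (c * y) a ∈ H := fun y h => by
    have e : sX a b (c * 0) = 1 := by simp [sX]
    have h' : sX a b (c * 0) * stv (c * y) a ∈ H := h
    rwa [e, one_mul] at h'
  have hx : c * (c⁻¹ * x) = x := by rw [← mul_assoc, hcc, one_mul]
  rw [← hx]
  apply fin
  generalize c⁻¹ * x = y
  by_cases h2 : (2 : F) = 0
  · by_cases hm : ∀ m : F, m = 0 ∨ m = 1
    · rcases hm y with rfl | rfl
      exacts [h0, h01]
    push Not at hm
    obtain ⟨m, hm0, hm1⟩ := hm
    obtain ⟨j₀, hm'⟩ := hM m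
    have hmm : m ^ 2 - m ≠ 0 := by
      rw [show m ^ 2 - m = m * (m - 1) by ring]
      exact mul_ne_zero hm0 (sub_ne_zero.2 hm1)
    -- every square occurs as a second coordinate, so every element does
    have : CharP F 2 := CharTwo.of_one_ne_zero_of_two_eq_zero one_ne_zero h2
    have hJ : ∀ z, ∃ i, P i z := fun z => by
      obtain ⟨w, rfl⟩ : ∃ w, w ^ 2 = z :=
        (Finite.injective_iff_surjective.1 (frobenius_inj F 2)) z
      obtain ⟨j, hj⟩ := hM w
      exact ⟨_, by simpa [h2, CharTwo.neg_eq] using key hj h01⟩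
    obtain ⟨j, rfl⟩ : ∃ j, y = (m ^ 2 - m) * j := ⟨y / (m ^ 2 - m), by field_simp⟩
    obtain ⟨i, hi⟩ := hJ j
    obtain ⟨i', hi'⟩ := hJ (m * j)
    have := hadd (key hm' hi) (hneg (key h10 hi'))
    simpa [h2, CharTwo.neg_eq, CharTwo.sub_eq_add, CharTwo.add_self_eq_zero, add_mul] using this
  · obtain ⟨j, rfl⟩ : ∃ j, y = 2 * j := ⟨y / 2, by field_simp⟩
    exact two j

end CfsgLib.KnownA.SpGen
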